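import Groth.Agent.EtaleStrat.Alg
import Groth.Agent.EtConsAb.Strata
import Groth.Agent.RedSub.Basic
import Groth.Agent.SGA1Quot.Sigma
import Mathlib.AlgebraicGeometry.Morphisms.Etale
import Mathlib.AlgebraicGeometry.ZariskisMainTheorem

/-!
# A quasi-compact quasi-separated étale scheme becomes finite on constructible strata
-/

set_option linter.style.haveILetI false

universe u

open CategoryTheory CategoryTheory.Limits AlgebraicGeometry Opposite Topology TensorProduct

namespace Groth.Agent.EtaleStrat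

variable {U X : Scheme.{u}}

/-- A finite cover by constructible strata refines to a partition into reduced strata mapping to it. -/
theorem exists_partition {ι : Type} [Finite ι] (T : ι → Scheme.{u}) (g : ∀ i, T i ⟶ X)
    (hg : ∀ i, IsImmersion (g i)) (hc : ∀ i, IsConstructible (Set.range (g i)))
    (hu : (⋃ i, Set.range (g i)) = Set.univ) :
    ∃ (n : ℕ) (S : Fin n → Scheme.{u}) (a : ∀ k, S k ⟶ X), (∀ k, IsImmersion (a k)) ∧
      (∀ k, IsConstructible (Set.range (a k))) ∧
      Pairwise (fun k l => Disjoint (Set.range (a k)) (Set.range (a l))) ∧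
      (⋃ k, Set.range (a k)) = Set.univ ∧ ∀ k, ∃ (i : ι) (t : S k ⟶ T i), t ≫ g i = a k := by
  classical
  choose G hGf hGo hGd using fun i => Groth.Agent.ConstrLib.exists_finite_determining (hc i)
  haveI : Finite ↥(⋃ i, G i) := (Set.finite_iUnion hGf).to_subtype
  let A : Type u := ↥(⋃ i, G i)
  have ho : ∀ a : A, IsOpen a.1 ∧ IsRetrocompact a.1 := fun a => by
    obtain ⟨i, hi⟩ := Set.mem_iUnion.1 a.2
    exact hGo i _ hi
  let O : (A → Bool) → X.Opens := fun σ =>
    ⟨⋂ a : {a : A // σ a = true}, a.1.1, isOpen_iInter_of_finite fun a => (ho a.1).1⟩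
  let C : (A → Bool) → Set X := fun σ => ⋂ a : {a : A // σ a = false}, (a.1.1)ᶜ
  have hC : ∀ σ, IsClosed (C σ) := fun σ => isClosed_iInter fun a => (ho a.1).1.isClosed_compl
  let Z : ∀ σ, TopologicalSpace.Closeds (O σ).toScheme := fun σ =>
    ⟨Subtype.val ⁻¹' C σ, (hC σ).preimage continuous_subtype_val⟩
  let S : (A → Bool) → Scheme.{u} := fun σ => (Scheme.IdealSheafData.vanishingIdeal (Z σ)).subscheme
  let a : ∀ σ, S σ ⟶ X := fun σ =>
    (Scheme.IdealSheafData.vanishingIdeal (Z σ)).subschemeι ≫ (O σ).ι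
  have hr : ∀ σ, Set.range (a σ) = (O σ : Set X) ∩ C σ := fun σ => by
    rw [show ⇑(a σ) = (O σ).ι ∘ (Scheme.IdealSheafData.vanishingIdeal (Z σ)).subschemeι
      from funext fun _ => Scheme.Hom.comp_apply _ _ _, Set.range_comp,
      Scheme.IdealSheafData.range_subschemeι, Scheme.IdealSheafData.coe_support_vanishingIdeal]
    ext x
    constructor
    · rintro ⟨y, hy, rfl⟩
      exact ⟨y.2, hy⟩
    · rintro ⟨hx, hx'⟩
      exact ⟨⟨x, hx⟩, hx', rfl⟩
  have hmem : ∀ σ x, x ∈ Set.range (a σ) ↔ ∀ s : A, (x ∈ s.1 ↔ σ s = true) := fun σ x => by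
    rw [hr]
    constructor
    · rintro ⟨hxo, hxc⟩ s
      refine ⟨fun hxs => ?_, fun hs => Set.mem_iInter.1 hxo ⟨s, hs⟩⟩
      by_contra hs
      exact Set.mem_iInter.1 hxc ⟨s, by simpa using hs⟩ hxs
    · intro hx
      refine ⟨Set.mem_iInter.2 fun s => (hx s.1).2 s.2, Set.mem_iInter.2 fun s hxs => ?_⟩
      exact absurd ((hx s.1).1 hxs) (by rw [s.2]; decide)
  let J := {σ : A → Bool // (Set.range (a σ)).Nonempty}
  cases nonempty_fintype J
  let e := (Fintype.equivFin J).symm
  refine ⟨Fintype.card J, fun k => S (e k).1, fun k => a (e k).1, fun k => inferInstance, fun k => ?_, ?_, ?_,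
    fun k => ?_⟩
  · rw [hr]
    exact (IsConstructible.iInter fun s : {s : A // (e k).1 s = true} =>
      (ho s.1).2.isConstructible (ho s.1).1).inter
      (IsConstructible.iInter fun s : {s : A // (e k).1 s = false} =>
        isConstructible_compl.2 ((ho s.1).2.isConstructible (ho s.1).1))
  · intro k l hne
    rw [Set.disjoint_left]
    intro x hx hy
    refine hne (e.injective (Subtype.ext (funext fun s => ?_)))
    exact Bool.eq_iff_iff.2 (((hmem _ x).1 hx s).symm.trans ((hmem _ x).1 hy s))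
  · refine Set.eq_univ_of_forall fun x => ?_
    let σ : A → Bool := fun s => decide (x ∈ s.1)
    have hx : x ∈ Set.range (a σ) := (hmem σ x).2 fun s => by simp [σ]
    exact Set.mem_iUnion.2 ⟨e.symm ⟨σ, x, hx⟩, by show x ∈ Set.range (a (e _).1); rw [Equiv.apply_symm_apply]; exact hx⟩
  · obtain ⟨x, hx⟩ := (e k).2
    obtain ⟨i, hi⟩ := Set.mem_iUnion.1 (hu.ge (Set.mem_univ x))
    haveI := hg i
    have hsub : Set.range (a (e k).1) ⊆ Set.range (g i) := fun y hy =>
      (hGd i x y fun s hs =>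
        ((hmem _ x).1 hx ⟨s, Set.mem_iUnion.2 ⟨i, hs⟩⟩).trans
          ((hmem _ y).1 hy ⟨s, Set.mem_iUnion.2 ⟨i, hs⟩⟩).symm).1 hi
    let p := pullback.fst (a (e k).1) (g i)
    haveI : Surjective p := ⟨fun z => by
      obtain ⟨t, ht⟩ := hsub ⟨z, rfl⟩
      obtain ⟨w, hw, -⟩ := Scheme.Pullback.exists_preimage_pullback (f := a (e k).1) (g := g i) z t ht.symm
      exact ⟨w, hw⟩⟩
    haveI : IsClosedImmersion p := IsClosedImmersion.of_isPreimmersion p (by
      rw [p.surjective.range_eq]; exact isClosed_univ)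
    haveI : IsReduced (S (e k).1) := RedSub.isReduced_vanishingIdeal _
    haveI : IsIso p := isIso_of_isClosedImmersion_of_surjective p
    exact ⟨i, inv p ≫ pullback.snd _ _, by
      rw [Category.assoc, ← pullback.condition, IsIso.inv_hom_id_assoc]⟩

/-- A morphism covered by finitely many opens, each finite over a separated base and with overlaps
covered by finitely many pieces finite over the base, is finite. -/
theorem isFinite_of_pieces {P T : Scheme.{u}} (π : P ⟶ T) {n : ℕ} (R : Fin n → Scheme.{u})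
    (c : ∀ a, R a ⟶ P) [∀ a, IsOpenImmersion (c a)] (hcov : (⋃ a, Set.range (c a)) = Set.univ)
    (hfin : ∀ a, IsFinite (c a ≫ π))
    (hover : ∀ a b, ∃ (m : ℕ) (W : Fin m → Scheme.{u}) (d : ∀ k, W k ⟶ P),
      (∀ k, IsFinite (d k ≫ π)) ∧ Set.range (c a) ∩ Set.range (c b) = ⋃ k, Set.range (d k)) :
    IsFinite π := by
  classical
  have hcl : ∀ a, IsClosed (Set.range (c a)) := by
    intro a
    have hb : ∀ b, IsClosed (c b ⁻¹' Set.range (c a)) := by
      intro b
      obtain ⟨m, W, d, hd, he⟩ := hover a b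
      have hle : ∀ k, Set.range (d k) ⊆ Set.range (c b) := fun k =>
        ((Set.subset_iUnion _ k).trans he.ge).trans Set.inter_subset_right
      have h1 : c b ⁻¹' Set.range (c a) = ⋃ k, Set.range (IsOpenImmersion.lift (c b) (d k) (hle k)) := by
        ext y
        constructor
        · intro hy
          have : c b y ∈ Set.range (c a) ∩ Set.range (c b) := ⟨hy, y, rfl⟩
          rw [he] at this
          obtain ⟨k, w, hw⟩ := Set.mem_iUnion.1 this
          refine Set.mem_iUnion.2 ⟨k, w, (c b).isOpenEmbedding.injective ?_⟩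
          rw [← Scheme.Hom.comp_apply, IsOpenImmersion.lift_fac, hw]
        · intro hy
          obtain ⟨k, w, rfl⟩ := Set.mem_iUnion.1 hy
          show c b _ ∈ Set.range (c a)
          rw [← Scheme.Hom.comp_apply, IsOpenImmersion.lift_fac]
          exact (he.ge (Set.mem_iUnion.2 ⟨k, w, rfl⟩)).1
      rw [h1]
      refine isClosed_iUnion_of_finite fun k => ?_
      haveI := hfin b
      haveI : IsFinite (IsOpenImmersion.lift (c b) (d k) (hle k) ≫ (c b ≫ π)) := by
        rw [IsOpenImmersion.lift_fac_assoc]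
        exact hd k
      haveI : IsFinite (IsOpenImmersion.lift (c b) (d k) (hle k)) := IsFinite.of_comp _ (c b ≫ π)
      exact (IsOpenImmersion.lift (c b) (d k) (hle k)).isClosedMap.isClosed_range
    rw [← isOpen_compl_iff]
    have : (Set.range (c a))ᶜ = ⋃ b, c b '' (c b ⁻¹' Set.range (c a))ᶜ := by
      ext y
      constructor
      · intro hy
        obtain ⟨b, z, rfl⟩ := Set.mem_iUnion.1 (hcov.ge (Set.mem_univ y))
        exact Set.mem_iUnion.2 ⟨b, z, hy, rfl⟩
      · intro hy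
        obtain ⟨b, z, hz, rfl⟩ := Set.mem_iUnion.1 hy
        exact hz
    rw [this]
    exact isOpen_iUnion fun b => (c b).isOpenEmbedding.isOpenMap _ (hb b).isOpen_compl
  let D : Fin n → Set P := fun a => Set.range (c a) \ ⋃ b, ⋃ (_ : b < a), Set.range (c b)
  have hDo : ∀ a, IsOpen (D a) := fun a => (c a).isOpenEmbedding.isOpen_range.sdiff
    (isClosed_iUnion_of_finite fun b => isClosed_iUnion_of_finite fun _ => hcl b)
  have hDc : ∀ a, IsClosed (D a) := fun a => (hcl a).sdiff
    (isOpen_iUnion fun b => isOpen_iUnion fun _ => (c b).isOpenEmbedding.isOpen_range)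
  let O : ∀ a, (R a).Opens := fun a => ⟨c a ⁻¹' D a, (hDo a).preimage (c a).continuous⟩
  let f : ∀ a : ULift.{u} (Fin n), (O a.down).toScheme ⟶ P := fun a => (O a.down).ι ≫ c a.down
  have hrange : ∀ a, Set.range (f a) = D a.down := fun a => by
    rw [show ⇑(f a) = c a.down ∘ (O a.down).ι from funext fun _ => Scheme.Hom.comp_apply _ _ _,
      Set.range_comp, Scheme.Opens.range_ι]
    exact Set.image_preimage_eq_of_subset Set.sdiff_subset
  have hff : ∀ a, IsFinite (f a ≫ π) := by
    intro a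
    haveI := hfin a.down
    haveI : IsClosedImmersion (O a.down).ι := IsClosedImmersion.of_isPreimmersion _ (by
      rw [Scheme.Opens.range_ι]; exact (hDc a.down).preimage (c a.down).continuous)
    rw [Category.assoc]
    infer_instance
  obtain ⟨hcolim⟩ := nonempty_isColimit_cofanMk_of f (by
    rw [eq_top_iff]
    intro y _
    have hne : (Finset.univ.filter fun a => y ∈ Set.range (c a)).Nonempty := by
      obtain ⟨a, ha⟩ := Set.mem_iUnion.1 (hcov.ge (Set.mem_univ y))
      exact ⟨a, by simpa using ha⟩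
    obtain ⟨a, ha, hmin⟩ := Finset.exists_min_image _ id hne
    simp only [Finset.mem_filter, Finset.mem_univ, true_and, id] at ha hmin
    refine TopologicalSpace.Opens.mem_iSup.2 ⟨⟨a⟩, ?_⟩
    show y ∈ Set.range (f ⟨a⟩)
    rw [hrange]
    refine ⟨ha, fun h => ?_⟩
    obtain ⟨b, hb, hyb⟩ := Set.mem_iUnion₂.1 h
    exact absurd (hmin b hyb) (not_le.2 hb)) (by
    intro a b hab
    simp only [Function.onFun_apply, disjoint_iff, TopologicalSpace.Opens.ext_iff]
    rw [TopologicalSpace.Opens.coe_inf, TopologicalSpace.Opens.coe_bot, ← Set.disjoint_iff_inter_eq_empty,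
      Scheme.Hom.coe_opensRange, Scheme.Hom.coe_opensRange, hrange, hrange, Set.disjoint_left]
    rintro y ⟨hya, hya'⟩ ⟨hyb, hyb'⟩
    rcases lt_trichotomy a.down b.down with h | h | h
    · exact hyb' (Set.mem_iUnion₂.2 ⟨_, h, hya⟩)
    · exact hab (ULift.ext _ _ h)
    · exact hya' (Set.mem_iUnion₂.2 ⟨_, h, hyb⟩))
  have h1 := SGA1Quot.isFinite_sigmaDesc (ULift.{u} (Fin n)) (fun a => (O a.down).toScheme) (fun a => f a ≫ π) hff
  let i := hcolim.coconePointUniqueUpToIso (coproductIsCoproduct (fun a : ULift.{u} (Fin n) => (O a.down).toScheme))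
  have h2 : π = i.hom ≫ Sigma.desc (fun a => f a ≫ π) := by
    refine Cofan.IsColimit.hom_ext hcolim _ _ fun a => ?_
    have := hcolim.comp_coconePointUniqueUpToIso_hom (coproductIsCoproduct _) ⟨a⟩
    show f a ≫ π = f a ≫ i.hom ≫ _
    rw [← Category.assoc]
    refine Eq.trans ?_ (congrArg (· ≫ _) this).symm
    exact (Sigma.ι_desc (fun a => f a ≫ π) a).symm
  rw [h2]
  exact (MorphismProperty.cancel_left_of_respectsIso @IsFinite _ _).2 h1

/-- A constructible stratum around a point over which an étale qcqs morphism is finite. -/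
theorem exists_stratum [QuasiSeparatedSpace X] [QuasiSeparatedSpace U] (j : U ⟶ X) [Etale j] [QuasiCompact j]
    (x : X) : ∃ (T : Scheme.{u}) (g : T ⟶ X), IsImmersion g ∧ IsConstructible (Set.range g) ∧
      x ∈ Set.range g ∧ IsFinite (pullback.snd j g) := by
  classical
  obtain ⟨V, hV, hxV, -⟩ := exists_isAffineOpen_mem_and_subset (show x ∈ (⊤ : X.Opens) from trivial)
  have hjV : IsCompact ((j ⁻¹ᵁ V : U.Opens) : Set U) := j.isCompact_preimage hV.isCompact
  -- affine opens covering `j ⁻¹ V` and their overlaps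
  have hex : ∀ u : ↥(j ⁻¹ᵁ V), ∃ W : U.Opens, IsAffineOpen W ∧ u.1 ∈ W ∧ W ≤ j ⁻¹ᵁ V := fun u => by
    obtain ⟨W, hW, huW, hle⟩ := exists_isAffineOpen_mem_and_subset u.2
    exact ⟨W, hW, huW, hle⟩
  choose W₀ hW₀ huW₀ hle₀ using hex
  obtain ⟨s, hs⟩ := hjV.elim_finite_subcover (fun u => (W₀ u : Set U)) (fun u => (W₀ u).2)
    (fun u hu => Set.mem_iUnion.2 ⟨⟨u, hu⟩, huW₀ ⟨u, hu⟩⟩)
  let Ua : Fin s.card → U.Opens := fun a => W₀ (s.equivFin.symm a).1
  have hUa : ∀ a, IsAffineOpen (Ua a) := fun a => hW₀ _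
  have hUaV : ∀ a, Ua a ≤ j ⁻¹ᵁ V := fun a => hle₀ _
  have hov : ∀ a b, ∃ (m : ℕ) (L : Fin m → U.Opens), (∀ k, IsAffineOpen (L k)) ∧
      (∀ k, L k ≤ j ⁻¹ᵁ V) ∧ ((Ua a : Set U) ∩ Ua b) = ⋃ k, (L k : Set U) := by
    intro a b
    have hc : IsCompact ((Ua a : Set U) ∩ Ua b) :=
      (hUa a).isCompact.inter_of_isOpen (hUa b).isCompact (Ua a).2 (Ua b).2
    have hex' : ∀ u : ↥((Ua a : Set U) ∩ Ua b), ∃ W : U.Opens, IsAffineOpen W ∧ u.1 ∈ W ∧
        (W : Set U) ⊆ (Ua a : Set U) ∩ Ua b := fun u => by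
      obtain ⟨W, hW, huW, hle⟩ := exists_isAffineOpen_mem_and_subset (show u.1 ∈ Ua a ⊓ Ua b from u.2)
      exact ⟨W, hW, huW, hle⟩
    choose W hW huW hle using hex'
    obtain ⟨t, ht⟩ := hc.elim_finite_subcover (fun u => (W u : Set U)) (fun u => (W u).2)
      (fun u hu => Set.mem_iUnion.2 ⟨⟨u, hu⟩, huW ⟨u, hu⟩⟩)
    refine ⟨t.card, fun k => W (t.equivFin.symm k).1, fun k => hW _,
      fun k y hy => hUaV a (hle _ hy).1, Set.Subset.antisymm (fun y hy => ?_)
        (Set.iUnion_subset fun k => hle _)⟩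
    obtain ⟨v, hv, hyv⟩ := Set.mem_iUnion₂.1 (ht hy)
    exact Set.mem_iUnion.2 ⟨t.equivFin ⟨v, hv⟩, by show y ∈ W (t.equivFin.symm _).1; rw [Equiv.symm_apply_apply]; exact hyv⟩
  choose m L hL hLV hLeq using hov
  -- the index of all affine pieces
  let K : Type := Fin s.card ⊕ (Σ a, Σ b, Fin (m a b))
  let Pc : K → U.Opens := fun i => match i with
    | .inl a => Ua a
    | .inr k => L k.1 k.2.1 k.2.2
  have hPc : ∀ i, IsAffineOpen (Pc i) ∧ Pc i ≤ j ⁻¹ᵁ V := fun i => by
    rcases i with a | k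
    · exact ⟨hUa a, hUaV a⟩
    · exact ⟨hL _ _ _, hLV _ _ _⟩
  -- finiteness of each piece over a stratum
  let p := (hV.primeIdealOf ⟨x, hxV⟩).asIdeal
  have hpiece : ∀ i, ∃ f ∉ p, ∃ I : Ideal Γ(X, V), I.FG ∧ I ≤ p ∧
      letI := (j.appLE V (Pc i) (hPc i).2).hom.toAlgebra
      ∀ (A' : Type u) [CommRing A'] [Algebra Γ(X, V) A'],
        IsUnit (algebraMap Γ(X, V) A' f) → (∀ a ∈ I, algebraMap Γ(X, V) A' a = 0) →
          Module.Finite A' (A' ⊗[Γ(X, V)] Γ(U, Pc i)) := by
    intro i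
    letI := (j.appLE V (Pc i) (hPc i).2).hom.toAlgebra
    haveI : Algebra.Etale Γ(X, V) Γ(U, Pc i) := j.etale_appLE hV (hPc i).1 (hPc i).2
    haveI : Module.Finite p.ResidueField (p.Fiber Γ(U, Pc i)) :=
      Algebra.FormallyUnramified.finite_of_free _ _
    exact exists_moduleFinite p
  choose f hf I hI hIp hfin using hpiece
  let f₀ : Γ(X, V) := ∏ i, f i
  let I₀ : Ideal Γ(X, V) := Finset.univ.sup I
  have hf₀ : f₀ ∉ p := fun h => by
    obtain ⟨i, -, hi⟩ := (Ideal.IsPrime.prod_mem_iff (hp := (hV.primeIdealOf ⟨x, hxV⟩).isPrime)).1 h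
    exact hf i hi
  have hI₀ : I₀.FG := Submodule.fg_finset_sup _ _ fun i _ => hI i
  have hI₀p : I₀ ≤ p := Finset.sup_le fun i _ => hIp i
  let A' := Localization.Away (Ideal.Quotient.mk I₀ f₀)
  let φ : Γ(X, V) →+* A' := algebraMap Γ(X, V) A'
  have hφ : φ = (algebraMap (Γ(X, V) ⧸ I₀) A').comp (Ideal.Quotient.mk I₀) :=
    IsScalarTower.algebraMap_eq Γ(X, V) (Γ(X, V) ⧸ I₀) A'
  have hu : IsUnit (algebraMap Γ(X, V) A' f₀) := by
    show IsUnit (φ f₀)
    rw [hφ]
    exact IsLocalization.Away.algebraMap_isUnit (Ideal.Quotient.mk I₀ f₀)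
  have h0 : ∀ a ∈ I₀, algebraMap Γ(X, V) A' a = 0 := fun a ha => by
    show φ a = 0
    rw [hφ, RingHom.comp_apply, Ideal.Quotient.eq_zero_iff_mem.2 ha, map_zero]
  let ψ : Spec (CommRingCat.of A') ⟶ Spec Γ(X, V) := Spec.map (CommRingCat.ofHom φ)
  let g : Spec (CommRingCat.of A') ⟶ X := ψ ≫ hV.fromSpec
  have hψr : Set.range ψ = PrimeSpectrum.zeroLocus (I₀ : Set Γ(X, V)) ∩ PrimeSpectrum.basicOpen f₀ := by
    show Set.range (PrimeSpectrum.comap φ) = _
    rw [hφ, PrimeSpectrum.comap_comp]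
    show Set.range (PrimeSpectrum.comap (Ideal.Quotient.mk I₀) ∘ PrimeSpectrum.comap (algebraMap _ A')) = _
    rw [Set.range_comp, PrimeSpectrum.localization_away_comap_range A' (Ideal.Quotient.mk I₀ f₀)]
    have hq := range_comap_of_surjective _ (Ideal.Quotient.mk I₀) Ideal.Quotient.mk_surjective
    rw [Ideal.mk_ker] at hq
    rw [← hq, show ((PrimeSpectrum.basicOpen (Ideal.Quotient.mk I₀ f₀)) : Set (PrimeSpectrum (Γ(X, V) ⧸ I₀))) =
      PrimeSpectrum.comap (Ideal.Quotient.mk I₀) ⁻¹' (PrimeSpectrum.basicOpen f₀ : Set (PrimeSpectrum Γ(X, V)))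
      from rfl, Set.image_preimage_eq_inter_range, Set.inter_comm]
  haveI : IsImmersion ψ := by
    haveI : IsClosedImmersion (Spec.map (CommRingCat.ofHom (Ideal.Quotient.mk I₀))) :=
      IsClosedImmersion.spec_of_surjective _ Ideal.Quotient.mk_surjective
    haveI : IsOpenImmersion (Spec.map (CommRingCat.ofHom (algebraMap (Γ(X, V) ⧸ I₀) A'))) :=
      IsOpenImmersion.of_isLocalization (Ideal.Quotient.mk I₀ f₀)
    show IsImmersion (Spec.map (CommRingCat.ofHom φ))
    rw [hφ, CommRingCat.ofHom_comp, Spec.map_comp]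
    infer_instance
  refine ⟨Spec (CommRingCat.of A'), g, inferInstance, ?_, ?_, ?_⟩
  · rw [show ⇑g = hV.fromSpec ∘ ψ from funext fun _ => Scheme.Hom.comp_apply _ _ _, Set.range_comp, hψr]
    refine (IsConstructible.inter ?_ ?_).image_of_isOpenEmbedding hV.fromSpec.isOpenEmbedding ?_
    · rw [← isConstructible_compl]
      exact (PrimeSpectrum.isRetrocompact_zeroLocus_compl_of_fg hI₀).isConstructible
        (PrimeSpectrum.isClosed_zeroLocus _).isOpen_compl
    · exact (PrimeSpectrum.isCompact_basicOpen f₀).isConstructible (PrimeSpectrum.basicOpen f₀).2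
    · rw [hV.range_fromSpec]
      exact hV.isCompact.isRetrocompact V.2
  · rw [show ⇑g = hV.fromSpec ∘ ψ from funext fun _ => Scheme.Hom.comp_apply _ _ _, Set.range_comp, hψr]
    exact ⟨hV.primeIdealOf ⟨x, hxV⟩, ⟨hI₀p, hf₀⟩, hV.fromSpec_primeIdealOf ⟨x, hxV⟩⟩
  · -- each piece is finite over the stratum
    have hfinK : ∀ i, IsFinite (pullback.snd (hPc i).1.fromSpec (pullback.fst j g) ≫ pullback.snd j g) := by
      intro i
      let θ := j.appLE V (Pc i) (hPc i).2
      letI := θ.hom.toAlgebra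
      haveI hM : Module.Finite A' (A' ⊗[Γ(X, V)] Γ(U, Pc i)) := hfin i A'
        (isUnit_of_dvd_unit (map_dvd _ (Finset.dvd_prod_of_mem f (Finset.mem_univ i))) hu)
        (fun a ha => h0 a (Finset.le_sup (f := I) (Finset.mem_univ i) ha))
      haveI : IsFinite (Spec.map (CommRingCat.ofHom (algebraMap A' (A' ⊗[Γ(X, V)] Γ(U, Pc i))))) :=
        IsFinite.SpecMap_iff _ |>.2 (RingHom.finite_algebraMap.2 hM)
      haveI h1 : IsFinite (pullback.snd (Spec.map θ) ψ) := by
        rw [← pullbackSymmetry_hom_comp_fst]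
        refine (MorphismProperty.cancel_left_of_respectsIso @IsFinite _ _).2 ?_
        refine (MorphismProperty.cancel_left_of_respectsIso @IsFinite (pullbackSpecIso _ A' _).inv _).1 ?_
        exact (pullbackSpecIso_inv_fst' (R := Γ(X, V)) (S := A') (T := Γ(U, Pc i))) ▸ inferInstance
      have hsq : IsPullback (pullback.fst (Spec.map θ) ψ) (pullback.snd (Spec.map θ) ψ)
          ((hPc i).1.fromSpec ≫ j) g := by
        rw [← hV.SpecMap_appLE_fromSpec j (hPc i).1 (hPc i).2]
        exact IsPullback.of_isLimit (pullbackIsPullbackOfCompMono (Spec.map θ) ψ hV.fromSpec)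
      have h2 : IsFinite (pullback.snd ((hPc i).1.fromSpec ≫ j) g) := by
        rw [← hsq.isoPullback_inv_snd]
        infer_instance
      rw [show pullback.snd (hPc i).1.fromSpec (pullback.fst j g) ≫ pullback.snd j g =
        (pullbackRightPullbackFstIso j g (hPc i).1.fromSpec).hom ≫ pullback.snd _ g from
          (pullbackRightPullbackFstIso_hom_snd j g _).symm]
      infer_instance
    have hr : ∀ i, Set.range (pullback.snd (hPc i).1.fromSpec (pullback.fst j g)) =
        pullback.fst j g ⁻¹' (Pc i : Set U) := fun i => by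
      rw [Scheme.Pullback.range_snd, IsAffineOpen.range_fromSpec]
    refine isFinite_of_pieces (pullback.snd j g) (fun a => _)
      (fun a => pullback.snd (hPc (.inl a)).1.fromSpec (pullback.fst j g)) ?_ (fun a => hfinK (.inl a))
      fun a b => ⟨m a b, fun k => _, fun k => pullback.snd (hPc (.inr ⟨a, b, k⟩)).1.fromSpec (pullback.fst j g),
        fun k => hfinK (.inr ⟨a, b, k⟩), ?_⟩
    · refine Set.eq_univ_of_forall fun z => ?_
      have hz : pullback.fst j g z ∈ j ⁻¹ᵁ V := by
        show j (pullback.fst j g z) ∈ V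
        rw [← Scheme.Hom.comp_apply, pullback.condition, Scheme.Hom.comp_apply]
        show hV.fromSpec _ ∈ (V : Set X)
        rw [← hV.range_fromSpec]
        exact ⟨_, rfl⟩
      obtain ⟨v, hv, hzv⟩ := Set.mem_iUnion₂.1 (hs hz)
      refine Set.mem_iUnion.2 ⟨s.equivFin ⟨v, hv⟩, ?_⟩
      refine (hr (.inl _)).ge ?_
      show pullback.fst j g z ∈ W₀ (s.equivFin.symm (s.equivFin ⟨v, hv⟩)).1
      rw [Equiv.symm_apply_apply]
      exact hzv
    · refine (congrArg₂ (· ∩ ·) (hr (.inl a)) (hr (.inl b))).trans ?_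
      refine Eq.trans ?_ (Set.iUnion_congr fun k => (hr (.inr ⟨a, b, k⟩)).symm)
      rw [← Set.preimage_inter, ← Set.preimage_iUnion]
      exact congrArg _ (hLeq a b)

end Groth.Agent.EtaleStrat

namespace Groth.Agent.EtaleStrat

variable {U X : Scheme.{u}}

/-- Finiteness over a stratum is inherited by finer strata. -/
theorem isFinite_snd_of_fac (j : U ⟶ X) {S T : Scheme.{u}} (g : T ⟶ X) (t : S ⟶ T) (a : S ⟶ X)
    (h : t ≫ g = a) [IsFinite (pullback.snd j g)] : IsFinite (pullback.snd j a) := by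
  subst h
  rw [← pullbackLeftPullbackSndIso_inv_snd_snd]
  infer_instance

/-- Finite partition of the base into constructible strata over which an étale morphism is finite. -/
theorem exists_finite_partition [CompactSpace X] [QuasiSeparatedSpace X] [QuasiSeparatedSpace U]
    (j : U ⟶ X) [Etale j] [QuasiCompact j] :
    ∃ (n : ℕ) (T : Fin n → Scheme.{u}) (g : ∀ i, T i ⟶ X),
      (∀ i, IsImmersion (g i)) ∧ (∀ i, IsConstructible (Set.range (g i))) ∧
      Pairwise (fun i i' => Disjoint (Set.range (g i)) (Set.range (g i'))) ∧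
      (⋃ i, Set.range (g i)) = Set.univ ∧ ∀ i, IsFinite (pullback.snd j (g i)) := by
  classical
  choose T g hg hc hx hfin using exists_stratum j
  obtain ⟨t, ht⟩ := Groth.Agent.EtConsAb.exists_finite_subcover_of_isConstructible _ hc
    (Set.eq_univ_of_forall fun x => Set.mem_iUnion.2 ⟨x, hx x⟩)
  let e := t.equivFin
  obtain ⟨n, S, a, ha, hac, had, hau, hfac⟩ := exists_partition (ι := Fin t.card) (fun k => T (e.symm k).1)
    (fun k => g (e.symm k).1) (fun k => hg _) (fun k => hc _) (Set.eq_univ_of_forall fun x => by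
      obtain ⟨i, hi, hxi⟩ := Set.mem_iUnion₂.1 (ht.ge (Set.mem_univ x))
      exact Set.mem_iUnion.2 ⟨e ⟨i, hi⟩, by rw [Equiv.symm_apply_apply]; exact hxi⟩)
  refine ⟨n, S, a, ha, hac, had, hau, fun k => ?_⟩
  obtain ⟨i, s, hs⟩ := hfac k
  haveI := hfin (e.symm i).1
  exact isFinite_snd_of_fac j _ s _ hs

end Groth.Agent.EtaleStrat
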