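import Mathlib.RingTheory.Etale.Field
import Mathlib.RingTheory.LocalRing.ResidueField.Fiber
import Mathlib.RingTheory.Localization.Integer
import Mathlib.RingTheory.IntegralClosure.IsIntegralClosure.Basic
import Mathlib.RingTheory.Finiteness.Ideal

/-!
# Finiteness of an algebra near a prime on a constructible piece of the base

If the fibre of a finite type algebra over a prime `p` is finite, the algebra becomes finite over
every algebra in which a suitable element outside `p` is invertible and a suitable finitely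
generated ideal inside `p` vanishes.
-/

set_option linter.style.haveILetI false

universe u

open Polynomial TensorProduct

namespace Groth.Agent.EtaleStrat

variable {A : Type u} [CommRing A] (p : Ideal A) [p.IsPrime] {B : Type u} [CommRing B] [Algebra A B]

attribute [local instance] Algebra.TensorProduct.rightAlgebra in
theorem exists_smul_mem_map_of_fiber_eq_zero {x : B} (hx : (1 : p.ResidueField) ⊗ₜ[A] x = 0) :
    ∃ t ∉ p, t • x ∈ p.map (algebraMap A B) := by
  have h := congrArg (Ideal.Fiber.algEquivAux₁ p) hx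
  rw [map_zero] at h
  change Ideal.Fiber.algEquivAux₁ p (algebraMap B (p.Fiber B) x) = 0 at h
  rw [AlgEquiv.commutes, ← Ideal.Quotient.mk_algebraMap, Ideal.Quotient.eq_zero_iff_mem,
    IsLocalization.algebraMap_mem_map_algebraMap_iff (Algebra.algebraMapSubmonoid B p.primeCompl)] at h
  obtain ⟨_, ⟨t, ht, rfl⟩, hm⟩ := h
  exact ⟨t, ht, by rw [Algebra.smul_def]; exact hm⟩

theorem exists_fg_le_of_mem_map {x : B} (hx : x ∈ p.map (algebraMap A B)) :
    ∃ I : Ideal A, I.FG ∧ I ≤ p ∧ x ∈ I.map (algebraMap A B) := by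
  obtain ⟨s, hs, hxs⟩ := Submodule.mem_span_finite_of_mem_span (R := B) hx
  classical
  choose a ha hax using fun y : s => hs y.2
  refine ⟨Ideal.span (Set.range a), Submodule.fg_span (Set.finite_range a),
    Ideal.span_le.2 (Set.range_subset_iff.2 ha), ?_⟩
  refine (show Submodule.span B (s : Set B) ≤ (Ideal.span (Set.range a)).map (algebraMap A B) from
    Submodule.span_le.2 fun y hy => ?_) hxs
  have := Ideal.mem_map_of_mem (algebraMap A B) (Ideal.subset_span (s := Set.range a) ⟨⟨y, hy⟩, rfl⟩)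
  rwa [hax] at this

/-- An element of `B` becomes integral on a constructible piece of the base around `p`. -/
theorem exists_isIntegral [Module.Finite p.ResidueField (p.Fiber B)] (b : B) :
    ∃ f ∉ p, ∃ I : Ideal A, I.FG ∧ I ≤ p ∧ ∀ (A' : Type u) [CommRing A'] [Algebra A A'],
      IsUnit (algebraMap A A' f) → (∀ a ∈ I, algebraMap A A' a = 0) →
        IsIntegral A' ((1 : A') ⊗ₜ[A] b) := by
  classical
  obtain ⟨Q, hQ, hQb⟩ := IsIntegral.of_finite p.ResidueField ((1 : p.ResidueField) ⊗ₜ[A] b)
  rw [← aeval_def] at hQb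
  obtain ⟨⟨a₀, ha₀⟩, hint⟩ := IsLocalization.exist_integer_multiples_of_finset (nonZeroDivisors (A ⧸ p))
    ((Finset.range (Q.natDegree + 1)).image Q.coeff)
  obtain ⟨a, rfl⟩ := Ideal.Quotient.mk_surjective a₀
  have hap : a ∉ p := fun h => nonZeroDivisors.ne_zero ha₀ (Ideal.Quotient.eq_zero_iff_mem.2 h)
  have hr : ∀ i, ∃ r : A, algebraMap A p.ResidueField r =
      algebraMap A p.ResidueField a * Q.coeff i := by
    intro i
    by_cases hi : i ∈ Finset.range (Q.natDegree + 1)
    · obtain ⟨r₀, hr₀⟩ := hint (Q.coeff i) (Finset.mem_image_of_mem _ hi)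
      obtain ⟨r, rfl⟩ := Ideal.Quotient.mk_surjective r₀
      refine ⟨r, ?_⟩
      rw [IsScalarTower.algebraMap_apply A (A ⧸ p) p.ResidueField,
        IsScalarTower.algebraMap_apply A (A ⧸ p) p.ResidueField a]
      exact hr₀.trans (Algebra.smul_def _ _)
    · refine ⟨0, ?_⟩
      rw [map_zero, Q.coeff_eq_zero_of_natDegree_lt (by simp at hi; omega), mul_zero]
  choose r hr using hr
  let P : A[X] := C a * X ^ Q.natDegree + ∑ i ∈ Finset.range Q.natDegree, C (r i) * X ^ i
  have hP : P.map (algebraMap A p.ResidueField) = C (algebraMap A p.ResidueField a) * Q := by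
    conv_rhs => rw [hQ.as_sum]
    simp [P, Polynomial.map_sum, hr, mul_add, Finset.mul_sum, mul_assoc]
  have h0 : (1 : p.ResidueField) ⊗ₜ[A] (aeval b P) = 0 := by
    have h1 : Algebra.TensorProduct.includeRight (R := A) (A := p.ResidueField) (aeval b P) = 0 := by
      rw [← aeval_algHom_apply, ← aeval_map_algebraMap p.ResidueField, hP, map_mul]
      exact (congrArg (_ * ·) hQb).trans (mul_zero _)
    exact h1
  obtain ⟨t, ht, htx⟩ := exists_smul_mem_map_of_fiber_eq_zero p h0
  obtain ⟨I, hI, hIp, hxI⟩ := exists_fg_le_of_mem_map p htx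
  refine ⟨t * a, fun h => ((Ideal.IsPrime.mem_or_mem ‹_› h).elim ht hap), I, hI, hIp,
    fun A' _ _ hu h0' => ?_⟩
  rw [map_mul, IsUnit.mul_iff] at hu
  have hz : ∀ y ∈ I.map (algebraMap A B), (1 : A') ⊗ₜ[A] y = 0 := by
    intro y hy
    refine Submodule.span_induction ?_ (tmul_zero _ _) (fun _ _ _ _ h h' => by rw [tmul_add, h, h', add_zero])
      (fun c z _ h => ?_) hy
    · rintro _ ⟨x, hx, rfl⟩
      rw [Algebra.algebraMap_eq_smul_one, tmul_smul, smul_tmul', Algebra.smul_def, h0' x hx, zero_mul,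
        zero_tmul]
    · rw [smul_eq_mul, ← one_mul (1 : A'), ← Algebra.TensorProduct.tmul_mul_tmul, h, mul_zero]
  have h2 : (1 : A') ⊗ₜ[A] (aeval b P) = 0 := by
    have h1 := hz _ hxI
    rw [tmul_smul, Algebra.smul_def] at h1
    have hu' : IsUnit (algebraMap A (A' ⊗[A] B) t) := by
      rw [IsScalarTower.algebraMap_apply A A' (A' ⊗[A] B)]
      exact hu.1.map _
    exact hu'.mul_right_eq_zero.1 h1
  obtain ⟨v, hv⟩ := hu.2
  let P' : A'[X] := X ^ Q.natDegree +
    ∑ i ∈ Finset.range Q.natDegree, C (↑v⁻¹ * algebraMap A A' (r i)) * X ^ i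
  have hP' : P' = C (↑v⁻¹ : A') * P.map (algebraMap A A') := by
    simp only [P', P, Polynomial.map_add, Polynomial.map_mul, Polynomial.map_pow, map_X, map_C,
      Polynomial.map_sum, ← hv, mul_add, Finset.mul_sum, ← mul_assoc, ← C_mul, Units.inv_mul, map_one, one_mul]
  refine ⟨P', monic_X_pow_add ((degree_sum_le _ _).trans_lt ((Finset.sup_lt_iff (WithBot.bot_lt_coe _)).2
    fun i hi => (degree_C_mul_X_pow_le i _).trans_lt (WithBot.coe_lt_coe.2 (Finset.mem_range.1 hi)))), ?_⟩
  rw [← aeval_def, hP', map_mul, aeval_map_algebraMap]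
  refine (congrArg (_ * ·) ?_).trans (mul_zero _)
  exact (aeval_algHom_apply (Algebra.TensorProduct.includeRight (R := A) (A := A')) b P).trans h2

/-- A finite type algebra with finite fibre at `p` is finite on a constructible piece around `p`. -/
theorem exists_moduleFinite [Algebra.FiniteType A B] [Module.Finite p.ResidueField (p.Fiber B)] :
    ∃ f ∉ p, ∃ I : Ideal A, I.FG ∧ I ≤ p ∧ ∀ (A' : Type u) [CommRing A'] [Algebra A A'],
      IsUnit (algebraMap A A' f) → (∀ a ∈ I, algebraMap A A' a = 0) →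
        Module.Finite A' (A' ⊗[A] B) := by
  classical
  obtain ⟨s, hs⟩ := (inferInstance : Algebra.FiniteType A B).out
  choose f hf I hI hIp h using fun b : B => exists_isIntegral p b
  refine ⟨∏ b ∈ s, f b, fun hmem => ?_, s.sup I, Submodule.fg_finset_sup _ _ (fun b _ => hI b),
    Finset.sup_le fun b _ => hIp b, fun A' _ _ hu h0 => ?_⟩
  · obtain ⟨b, -, hb⟩ := (Ideal.IsPrime.prod_mem_iff (hp := ‹p.IsPrime›)).1 hmem
    exact hf b hb
  · rw [map_prod, IsUnit.prod_iff] at hu
    have htop : Algebra.adjoin A' ((fun b => (1 : A') ⊗ₜ[A] b) '' (s : Set B)) = ⊤ :=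
      (Algebra.TensorProduct.adjoin_one_tmul_image_eq_top (A := A') (s : Set B) hs)
    refine Module.Finite.of_fg_top ?_
    rw [← Algebra.top_toSubmodule, ← htop]
    refine fg_adjoin_of_finite (s.finite_toSet.image _) ?_
    rintro _ ⟨b, hb, rfl⟩
    exact h b A' (hu b hb) fun a ha => h0 a ((Finset.le_sup (f := I) (Finset.mem_coe.1 hb)) ha)

end Groth.Agent.EtaleStrat
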